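import Groth.Agent.FinHopf.Points
import Mathlib.RingTheory.Spectrum.Prime.Noetherian
import Mathlib.LinearAlgebra.Trace
import Mathlib.FieldTheory.IsAlgClosed.Basic
import Mathlib.GroupTheory.OrderOfElement
import Mathlib.LinearAlgebra.Matrix.Block
import Mathlib.Data.Nat.Prime.Factorial

/-!
# Hopf algebras of prime rank over an algebraically closed field

Either the algebra is local, the characteristic is `p` and the dual is `k[d]` for a derivation `d`,
or it is the algebra of functions on a cyclic group of order `p`.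
-/

open Coalgebra Bialgebra TensorProduct WithConv

universe u v

namespace Groth.Agent.FinHopf.FieldOrderP

open Groth.Agent.FinHopf.Deligne Groth.Agent.FinHopf.Points

noncomputable section

variable {K : Type u} [Field K] {A : Type v} [CommRing A] [HopfAlgebra K A]

/-- derivations at the origin -/
def IsEpsDer (d : A →ₗ[K] K) : Prop :=
  ∀ x y : A, d (x * y) = counit (R := K) x * d y + counit (R := K) y * d x

/-- `a ↦ Σ d(a₂) a₁` -/
def invDer (d : A →ₗ[K] K) : A →ₗ[K] A :=
  (TensorProduct.rid K A).toLinearMap ∘ₗ d.lTensor A ∘ₗ comul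

theorem invDer_apply {d : A →ₗ[K] K} {a : A} {ι : Type*} (r : Coalgebra.Repr K a ι) :
    invDer d a = ∑ i ∈ r.index, d (r.right i) • r.left i := by
  simp [invDer, ← r.eq, map_sum]

theorem counit_invDer (d : A →ₗ[K] K) (a : A) : counit (R := K) (invDer d a) = d a := by
  rw [invDer_apply (ℛ K a)]
  conv_rhs => rw [← Coalgebra.sum_counit_smul (ℛ K a)]
  simp [map_sum, mul_comm]

/-- evaluate the right tensor factor by a form -/
def evalRight (φ : A →ₗ[K] K) : A ⊗[K] A →ₗ[K] A :=
  (TensorProduct.rid K A).toLinearMap ∘ₗ φ.lTensor A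

@[simp] theorem evalRight_tmul (φ : A →ₗ[K] K) (x y : A) : evalRight φ (x ⊗ₜ y) = φ y • x := by
  simp [evalRight]

theorem evalRight_counit_comul (a : A) : evalRight (counit (R := K) (A := A)) (comul a) = a := by
  change TensorProduct.rid K A ((counit (R := K) (A := A)).lTensor A (comul a)) = a
  rw [Coalgebra.lTensor_counit_comul]; simp

theorem evalRight_mul {d : A →ₗ[K] K} (hd : IsEpsDer d) (z w : A ⊗[K] A) :
    evalRight d (z * w) = evalRight counit z * evalRight d w + evalRight counit w * evalRight d z := by
  induction z using TensorProduct.induction_on with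
  | zero => simp
  | tmul x y =>
    induction w using TensorProduct.induction_on with
    | zero => simp
    | tmul x' y' =>
      simp only [Algebra.TensorProduct.tmul_mul_tmul, evalRight_tmul, hd _ _, add_smul,
        smul_mul_smul_comm]
      rw [mul_comm x x']
    | add w w' hw hw' => simp only [mul_add, map_add, hw, hw', add_mul]; abel
  | add z z' hz hz' => simp only [add_mul, map_add, hz, hz', mul_add]; abel

theorem invDer_mul {d : A →ₗ[K] K} (hd : IsEpsDer d) (a b : A) :
    invDer d (a * b) = a * invDer d b + b * invDer d a := by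
  change evalRight d (comul (a * b)) = a * evalRight d (comul b) + b * evalRight d (comul a)
  rw [Bialgebra.comul_mul, evalRight_mul hd, evalRight_counit_comul, evalRight_counit_comul]

theorem invDer_algebraMap {d : A →ₗ[K] K} (hd : IsEpsDer d) : invDer d (1 : A) = 0 := by
  have h := invDer_mul hd 1 1
  simp only [mul_one, one_mul] at h
  exact left_eq_add.mp h

/-- `invDer d` as a derivation -/
def invDerivation {d : A →ₗ[K] K} (hd : IsEpsDer d) : Derivation K A A where
  toLinearMap := invDer d
  map_one_eq_zero' := invDer_algebraMap hd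
  leibniz' := invDer_mul hd

theorem convPow_eq_counit_comp (d : A →ₗ[K] K) (n : ℕ) (a : A) :
    ((toConv d) ^ n) a = counit (R := K) (((invDer d) ^ n) a) := by
  induction n generalizing a with
  | zero => simp
  | succ n ih =>
    have hmul : (toConv d ^ n * toConv d) a = (toConv d ^ n) (invDer d a) := by
      rw [(ℛ K a).convMul_apply, invDer_apply (ℛ K a), map_sum]
      simp [mul_comm]
    rw [pow_succ, hmul, ih, pow_succ, Module.End.mul_apply]

/-- the augmentation ideal -/
abbrev augI (K : Type u) (A : Type v) [Field K] [CommRing A] [HopfAlgebra K A] : Ideal A :=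
  RingHom.ker (Bialgebra.counitAlgHom K A)

theorem mem_augI {a : A} : a ∈ augI K A ↔ counit (R := K) a = 0 := Iff.rfl

theorem derivation_mem_pow (δ : Derivation K A A) (J : Ideal A) :
    ∀ (n : ℕ), ∀ a ∈ J ^ (n + 1), δ a ∈ J ^ n := by
  intro n
  induction n with
  | zero => simp
  | succ n ih =>
    intro a ha
    rw [pow_succ] at ha
    refine Submodule.mul_induction_on ha (fun x hx y hy => ?_) fun x y hx hy => ?_
    · rw [Derivation.leibniz, smul_eq_mul, smul_eq_mul]
      refine add_mem (Ideal.mul_mem_right _ _ hx) ?_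
      rw [pow_succ']
      exact Ideal.mul_mem_mul hy (ih x hx)
    · rw [map_add]; exact add_mem hx hy

theorem derivation_iterate_mem_pow (δ : Derivation K A A) (J : Ideal A) :
    ∀ (i n : ℕ), ∀ a ∈ J ^ (n + i), (δ.toLinearMap ^ i) a ∈ J ^ n := by
  intro i
  induction i with
  | zero => simp
  | succ i ih =>
    intro n a ha
    rw [pow_succ, Module.End.mul_apply]
    exact ih n _ (derivation_mem_pow δ J (n + i) a (by rwa [← add_assoc] at ha))

theorem counit_iterate_pow (δ : Derivation K A A) {a : A} (ha : counit (R := K) a = 0)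
    (hu : counit (R := K) (δ a) = 1) :
    ∀ (i : ℕ) (b : A), counit (R := K) ((δ.toLinearMap ^ i) (a ^ i * b)) = i.factorial * counit (R := K) b := by
  intro i
  induction i with
  | zero => simp
  | succ i ih =>
    intro b
    have h1 : δ (a ^ (i + 1) * b) = (i + 1 : ℕ) • (a ^ i * (δ a * b)) + a ^ (i + 1) * δ b := by
      rw [Derivation.leibniz, Derivation.leibniz_pow, Nat.add_sub_cancel]
      simp only [smul_eq_mul, nsmul_eq_mul]
      ring
    have h2 : counit (R := K) ((δ.toLinearMap ^ i) (a ^ (i + 1) * δ b)) = 0 := by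
      have := derivation_iterate_mem_pow δ (augI K A) i 1 (a ^ (i + 1) * δ b)
        (Ideal.mul_mem_right _ _ (by rw [add_comm 1 i]; exact Ideal.pow_mem_pow (mem_augI.mpr ha) _))
      rwa [pow_one, mem_augI] at this
    have hstep : (δ.toLinearMap ^ (i + 1)) (a ^ (i + 1) * b) = (δ.toLinearMap ^ i) (δ (a ^ (i + 1) * b)) := by
      rw [pow_succ, Module.End.mul_apply]; rfl
    rw [hstep, h1, map_add, map_add, h2, add_zero, map_nsmul, map_nsmul, ih, Nat.factorial_succ]
    rw [Bialgebra.counit_mul, hu]
    simp [mul_assoc]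

theorem counit_iterate_pow_of_lt (δ : Derivation K A A) {a : A} (ha : counit (R := K) a = 0)
    {i j : ℕ} (hij : i < j) : counit (R := K) ((δ.toLinearMap ^ i) (a ^ j)) = 0 := by
  have := derivation_iterate_mem_pow δ (augI K A) i 1 (a ^ j)
    (Ideal.pow_le_pow_right (by omega) (Ideal.pow_mem_pow (mem_augI.mpr ha) j))
  rwa [pow_one, mem_augI] at this

theorem IsEpsDer.map_one {d : A →ₗ[K] K} (hd : IsEpsDer d) : d 1 = 0 := by
  have h := hd 1 1
  simp only [mul_one, Bialgebra.counit_one, one_mul] at h
  exact left_eq_add.mp h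

theorem exists_dual_elem {d : A →ₗ[K] K} (hd : IsEpsDer d) (hd0 : d ≠ 0) :
    ∃ a : A, counit (R := K) a = 0 ∧ d a = 1 := by
  obtain ⟨a, ha⟩ : ∃ a, d a ≠ 0 := by
    by_contra h; push Not at h; exact hd0 (LinearMap.ext h)
  refine ⟨(d a)⁻¹ • (a - algebraMap K A (counit (R := K) a)), ?_, ?_⟩
  · simp
  · simp [Algebra.algebraMap_eq_smul_one, hd.map_one, inv_mul_cancel₀ ha]

/-- in a local algebra, a nonzero derivation at the origin forces `finrank = 0` in `K` -/
theorem finrank_eq_zero_of_derivation [FiniteDimensional K A] [IsLocalRing A] {d : A →ₗ[K] K}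
    (hd : IsEpsDer d) (hd0 : d ≠ 0) : (Module.finrank K A : K) = 0 := by
  obtain ⟨a, ha, hda⟩ := exists_dual_elem hd hd0
  set u := invDer d a with hu
  have hu1 : counit (R := K) u = 1 := by rw [hu, counit_invDer, hda]
  have hnil : IsNilpotent (u - 1) := by
    have : IsArtinianRing A := IsArtinianRing.of_finite K A
    have hmem : u - 1 ∈ nilradical A := by
      rw [nilradical, Submodule.zero_eq_bot, ← IsArtinianRing.jacobson_eq_radical, IsLocalRing.jacobson_eq_maximalIdeal _ bot_ne_top]
      have hmax : (augI K A).IsMaximal :=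
        RingHom.ker_isMaximal_of_surjective _ fun r => ⟨algebraMap K A r, by simp⟩
      rw [← IsLocalRing.eq_maximalIdeal hmax]
      simp [mem_augI, hu1]
    exact hmem
  have hcomm : Algebra.lmul K A u = invDer d ∘ₗ Algebra.lmul K A a - Algebra.lmul K A a ∘ₗ invDer d := by
    ext x
    simp only [LinearMap.sub_apply, LinearMap.comp_apply, Algebra.coe_lmul_eq_mul, LinearMap.mul_apply_apply,
      invDer_mul hd, hu]
    ring
  have h0 : LinearMap.trace K A (Algebra.lmul K A u) = 0 := by
    rw [hcomm, map_sub, sub_eq_zero]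
    exact LinearMap.trace_comp_comm' _ _
  have h1 : LinearMap.trace K A (Algebra.lmul K A (u - 1)) = 0 :=
    (LinearMap.isNilpotent_trace_of_isNilpotent (hnil.map (Algebra.lmul K A))).eq_zero
  rwa [map_sub, map_one, map_sub, h0, zero_sub, neg_eq_zero, LinearMap.trace_one] at h1

/-- the powers of a nonzero derivation at the origin are independent below the characteristic -/
theorem linearIndependent_pow {d : A →ₗ[K] K} (hd : IsEpsDer d) (hd0 : d ≠ 0) (p : ℕ)
    (hp : ∀ i < p, (i.factorial : K) ≠ 0) :
    LinearIndependent K (fun i : Fin p => (toConv d) ^ (i : ℕ)) := by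
  obtain ⟨a, ha, hda⟩ := exists_dual_elem hd hd0
  let δ := invDerivation hd
  have hu : counit (R := K) (δ a) = 1 := by
    change counit (R := K) (invDer d a) = 1
    rw [counit_invDer, hda]
  let M : Matrix (Fin p) (Fin p) K := fun i j => ((toConv d) ^ (i : ℕ)) (a ^ (j : ℕ))
  have hM : M.BlockTriangular OrderDual.toDual := fun i j hij => by
    change ((toConv d) ^ (i : ℕ)) (a ^ (j : ℕ)) = 0
    rw [convPow_eq_counit_comp]
    exact counit_iterate_pow_of_lt δ ha (by simpa using hij)
  have hdet : IsUnit M.det := by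
    rw [Matrix.det_of_isLowerTriangular M hM, isUnit_iff_ne_zero, Finset.prod_ne_zero_iff]
    intro i _
    change ((toConv d) ^ (i : ℕ)) (a ^ (i : ℕ)) ≠ 0
    have := counit_iterate_pow δ ha hu i 1
    rw [mul_one, Bialgebra.counit_one, mul_one] at this
    rw [convPow_eq_counit_comp]
    change counit (R := K) ((δ.toLinearMap ^ (i : ℕ)) (a ^ (i : ℕ))) ≠ 0
    rw [this]
    exact hp i i.isLt
  have hrows := Matrix.linearIndependent_rows_iff_isUnit.mpr ((Matrix.isUnit_iff_isUnit_det M).mpr hdet)
  exact LinearIndependent.of_comp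
    (LinearMap.pi fun j : Fin p =>
      LinearMap.applyₗ (a ^ (j : ℕ)) ∘ₗ (WithConv.linearEquiv K (A →ₗ[K] K)).toLinearMap) hrows

theorem exists_epsDer_of_not_idempotent (h : ¬ augI K A ^ 2 = augI K A) :
    ∃ d : A →ₗ[K] K, d ≠ 0 ∧ IsEpsDer d := by
  obtain ⟨x, hx, hx2⟩ : ∃ x ∈ augI K A, x ∉ augI K A ^ 2 := by
    by_contra hc; push Not at hc
    exact h (le_antisymm (Ideal.pow_le_self two_ne_zero) hc)
  let W : Submodule K A := (augI K A ^ 2).restrictScalars K
  obtain ⟨φ, hφ, hφW⟩ := Submodule.exists_dual_map_eq_bot_of_notMem (p := W) hx2 inferInstance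
  let P : A →ₗ[K] A := LinearMap.id - Algebra.linearMap K A ∘ₗ counit
  refine ⟨φ ∘ₗ P, fun h0 => hφ ?_, fun a b => ?_⟩
  · have := LinearMap.congr_fun h0 x
    simpa [P, mem_augI.mp hx] using this
  · have hmem : P a * P b ∈ W := by
      change _ ∈ augI K A ^ 2
      rw [pow_two]
      exact Ideal.mul_mem_mul (by simp [P, mem_augI]) (by simp [P, mem_augI])
    have h2 : φ (P a * P b) = 0 := by
      have := Submodule.mem_map_of_mem (f := φ) hmem
      rw [hφW] at this
      exact (Submodule.mem_bot K).mp this
    have h3 : P (a * b) = P a * P b + counit (R := K) a • P b + counit (R := K) b • P a := by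
      simp only [P, LinearMap.sub_apply, LinearMap.id_apply, LinearMap.comp_apply, Bialgebra.counit_mul,
        Algebra.linearMap_apply, Algebra.smul_def, map_mul]
      ring
    simp only [LinearMap.comp_apply, h3, map_add, map_smul, h2, zero_add, smul_eq_mul]

section AlgClosed

variable [IsAlgClosed K] [FiniteDimensional K A]

theorem exists_point_ker (M : Ideal A) [M.IsMaximal] :
    ∃ g : WithConv (A →ₐ[K] K), RingHom.ker g.ofConv = M := by
  let _ := Ideal.Quotient.field M
  let e : K ≃ₐ[K] A ⧸ M := AlgEquiv.ofBijective (Algebra.ofId K (A ⧸ M))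
    IsAlgClosed.algebraMap_bijective_of_isIntegral
  refine ⟨toConv (e.symm.toAlgHom.comp (Ideal.Quotient.mkₐ K M)), ?_⟩
  ext a
  simp [RingHom.mem_ker, Ideal.Quotient.eq_zero_iff_mem]

variable (K A) in
/-- points are the same as maximal ideals -/
def pointsEquiv : WithConv (A →ₐ[K] K) ≃ MaximalSpectrum A :=
  Equiv.ofBijective
    (fun g => ⟨RingHom.ker g.ofConv,
      RingHom.ker_isMaximal_of_surjective g.ofConv fun r => ⟨algebraMap K A r, g.ofConv.commutes r⟩⟩)
    ⟨fun g h hgh => by
      have hk : RingHom.ker g.ofConv = RingHom.ker h.ofConv := congrArg MaximalSpectrum.asIdeal hgh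
      apply WithConv.ext; ext a
      have : a - algebraMap K A (g a) ∈ RingHom.ker h.ofConv := by
        rw [← hk]; simp [RingHom.mem_ker]
      rw [RingHom.mem_ker, map_sub, h.ofConv.commutes, sub_eq_zero] at this
      exact this.symm,
    fun M => by
      have := M.isMaximal
      obtain ⟨g, hg⟩ := exists_point_ker (K := K) M.asIdeal
      exact ⟨g, MaximalSpectrum.ext hg⟩⟩

variable [hA : IsArtinianRing A]

theorem finite_points : Finite (WithConv (A →ₐ[K] K)) := Finite.of_equiv _ (pointsEquiv K A).symm

theorem finrank_localization_eq (M : Ideal A) [M.IsMaximal] [(augI K A).IsMaximal] :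
    Module.finrank K (Localization.AtPrime M) = Module.finrank K (Localization.AtPrime (augI K A)) := by
  obtain ⟨g, hg⟩ := exists_point_ker (K := K) M
  let e := transEquiv g
  have hmap : M.primeCompl.map e.toMonoidHom = (augI K A).primeCompl := by
    ext x
    constructor
    · rintro ⟨y, hy, rfl⟩ hx
      apply hy
      rw [← hg, ← comap_ker_trans g]
      exact hx
    · intro hx
      refine ⟨e.symm x, fun hy => hx ?_, e.apply_symm_apply x⟩
      have hy' : e.symm x ∈ (augI K A).comap e := by rw [comap_ker_trans, hg]; exact hy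
      rw [Ideal.mem_comap, e.apply_symm_apply] at hy'
      exact hy'
  exact (IsLocalization.algEquivOfAlgEquiv (M := M.primeCompl) (T := (augI K A).primeCompl)
    (Localization.AtPrime M) (Localization.AtPrime (augI K A)) e hmap).toLinearEquiv.finrank_eq

theorem finrank_eq_card_points_mul [(augI K A).IsMaximal] :
    Module.finrank K A = Nat.card (WithConv (A →ₐ[K] K)) *
      Module.finrank K (Localization.AtPrime (augI K A)) := by
  have : Fintype (MaximalSpectrum A) := Fintype.ofFinite _
  have (M : MaximalSpectrum A) : Module.Finite K (Localization.AtPrime M.asIdeal) :=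
    Module.Finite.of_surjective (Algebra.algHom K A (Localization.AtPrime M.asIdeal)).toLinearMap
      (IsArtinianRing.localization_surjective M.asIdeal.primeCompl _)
  rw [((MaximalSpectrum.toPiLocalizationEquiv A).restrictScalars K).toLinearEquiv.finrank_eq,
    Module.finrank_pi_fintype, Nat.card_congr (pointsEquiv K A), Nat.card_eq_fintype_card,
    Finset.sum_congr rfl (fun M _ => finrank_localization_eq (K := K) M.asIdeal), Finset.sum_const,
    smul_eq_mul, Finset.card_univ]

omit hA in
/-- if the local ring at the origin has dimension one, there is no derivation there -/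
theorem epsDer_eq_zero_of_finrank_localization_eq_one [(augI K A).IsMaximal]
    (h : Module.finrank K (Localization.AtPrime (augI K A)) = 1) {d : A →ₗ[K] K} (hd : IsEpsDer d) :
    d = 0 := by
  have key : ∀ x ∈ augI K A, d x = 0 := by
    intro x hx
    obtain ⟨c, hc⟩ := (finrank_eq_one_iff_of_nonzero' (1 : Localization.AtPrime (augI K A)) one_ne_zero).mp h
      (algebraMap A _ x)
    have h2 : algebraMap A (Localization.AtPrime (augI K A)) (x - algebraMap K A c) = 0 := by
      rw [map_sub, ← hc, ← IsScalarTower.algebraMap_apply, Algebra.algebraMap_eq_smul_one (R := K), sub_self]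
    obtain ⟨s, hs⟩ := (IsLocalization.map_eq_zero_iff (augI K A).primeCompl _ _).mp h2
    have hs0 : counit (R := K) (s : A) ≠ 0 := s.2
    have hc0 : c = 0 := by
      have := congrArg (counit (R := K)) hs
      simp only [Bialgebra.counit_mul, map_sub, mem_augI.mp hx, Bialgebra.counit_algebraMap, zero_sub,
        mul_neg, map_zero, neg_eq_zero, mul_eq_zero] at this
      exact this.resolve_left hs0
    rw [hc0, map_zero, sub_zero] at hs
    have h3 := congrArg d hs
    rw [hd, mem_augI.mp hx, zero_mul, add_zero, map_zero] at h3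
    exact (mul_eq_zero.mp h3).resolve_left hs0
  refine LinearMap.ext fun a => ?_
  have := key (a - algebraMap K A (counit (R := K) a)) (by simp [mem_augI])
  rw [map_sub, Algebra.algebraMap_eq_smul_one, map_smul, hd.map_one, smul_zero, sub_zero] at this
  exact this

omit hA in
/-- the two kinds of groups of prime order -/
theorem order_prime_cases (p : ℕ) [hp : Fact p.Prime] (hA' : Module.finrank K A = p) :
    (CharP K p ∧ ∃ d : A →ₗ[K] K, d ≠ 0 ∧ IsEpsDer d) ∨
    (Nat.card (WithConv (A →ₐ[K] K)) = p ∧
      Function.Injective fun (a : A) (g : WithConv (A →ₐ[K] K)) => g a) := by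
  have hA : IsArtinianRing A := IsArtinianRing.of_finite K A
  have : (augI K A).IsMaximal :=
    RingHom.ker_isMaximal_of_surjective _ fun r => ⟨algebraMap K A r, by simp⟩
  have hmul := finrank_eq_card_points_mul (K := K) (A := A)
  rw [hA'] at hmul
  by_cases hI : augI K A ^ 2 = augI K A
  · right
    have hI2 : ∀ M : Ideal A, M.IsMaximal → M ^ 2 = M := by
      intro M hM
      obtain ⟨g, hg⟩ := exists_point_ker (K := K) M
      rw [← hg, ← map_ker_trans_symm g, ← Ideal.map_pow, hI]
    have hfu : Algebra.FormallyUnramified K A := formallyUnramified_of_idempotent hI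
    have hred : IsReduced A := Algebra.FormallyUnramified.isReduced_of_field K A
    have hinj : Function.Injective fun (a : A) (g : WithConv (A →ₐ[K] K)) => g a := by
      intro a b hab
      rw [← sub_eq_zero]
      apply IsReduced.eq_zero
      rw [← mem_nilradical, nilradical, Submodule.zero_eq_bot, ← IsArtinianRing.jacobson_eq_radical]
      simp only [Ideal.jacobson, Submodule.mem_sInf, Set.mem_ofPred_eq, bot_le, true_and]
      intro M hM
      obtain ⟨g, hg⟩ := exists_point_ker (K := K) M
      rw [← hg, RingHom.mem_ker, map_sub, sub_eq_zero]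
      exact congrFun hab g
    refine ⟨?_, hinj⟩
    have : Finite (WithConv (A →ₐ[K] K)) := finite_points
    have : Fintype (WithConv (A →ₐ[K] K)) := Fintype.ofFinite _
    let ev : A →ₗ[K] (WithConv (A →ₐ[K] K) → K) := LinearMap.pi fun g => g.ofConv.toLinearMap
    have hle : p ≤ Nat.card (WithConv (A →ₐ[K] K)) := by
      rw [← hA', Nat.card_eq_fintype_card, ← Module.finrank_pi K]
      exact LinearMap.finrank_le_finrank_of_injective (f := ev) hinj
    exact le_antisymm (Nat.le_of_dvd hp.out.pos ⟨_, hmul⟩) hle
  · left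
    obtain ⟨d, hd0, hd⟩ := exists_epsDer_of_not_idempotent hI
    rcases (Nat.dvd_prime hp.out).mp ⟨_, hmul⟩ with hcard | hcard
    · have : Subsingleton (MaximalSpectrum A) := by
        have : Finite (WithConv (A →ₐ[K] K)) := finite_points
        have h1 : Subsingleton (WithConv (A →ₐ[K] K)) := Finite.card_le_one_iff_subsingleton.mp hcard.le
        exact (pointsEquiv K A).symm.subsingleton
      have : IsLocalRing A := .of_unique_max_ideal ⟨augI K A, inferInstance, fun M hM =>
        congrArg MaximalSpectrum.asIdeal (Subsingleton.elim (⟨M, hM⟩ : MaximalSpectrum A) ⟨augI K A, inferInstance⟩)⟩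
      have h0 := finrank_eq_zero_of_derivation hd hd0
      rw [hA'] at h0
      refine ⟨?_, d, hd0, hd⟩
      rcases CharP.exists K with ⟨q, hq⟩
      have hdvd : q ∣ p := (CharP.cast_eq_zero_iff K q p).mp h0
      rcases CharP.char_is_prime_or_zero K q with hq' | hq'
      · rwa [(Nat.prime_dvd_prime_iff_eq hq' hp.out).mp hdvd] at hq
      · subst hq'; exact absurd (Nat.eq_zero_of_zero_dvd hdvd) hp.out.ne_zero
    · exfalso
      rw [hcard] at hmul
      have h1 : Module.finrank K (Localization.AtPrime (augI K A)) = 1 :=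
        Nat.eq_of_mul_eq_mul_left hp.out.pos (by rw [mul_one]; exact hmul.symm)
      exact hd0 (epsDer_eq_zero_of_finrank_localization_eq_one h1 hd)

theorem exists_generator_point {p : ℕ} [hp : Fact p.Prime]
    (hc : Nat.card (WithConv (A →ₐ[K] K)) = p) :
    ∃ g : WithConv (A →ₐ[K] K),
      Function.Bijective fun i : Fin p => g ^ (i : ℕ) := by
  have : Finite (WithConv (A →ₐ[K] K)) := Nat.finite_of_card_ne_zero (by rw [hc]; exact hp.out.ne_zero)
  have : Nontrivial (WithConv (A →ₐ[K] K)) := by
    rw [← Finite.one_lt_card_iff_nontrivial, hc]; exact hp.out.one_lt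
  obtain ⟨g, hg⟩ := exists_ne (1 : WithConv (A →ₐ[K] K))
  refine ⟨g, (Nat.bijective_iff_injective_and_card _).mpr ⟨?_, by simp [hc]⟩⟩
  let G := WithConv (A →ₐ[K] K)
  let _ : Group G :=
    { (inferInstance : Monoid G) with
      inv := inv'
      inv_mul_cancel := inv'_mul }
  have hord : orderOf g = p := by
    have hdvd : orderOf g ∣ p := hc ▸ orderOf_dvd_natCard g
    exact ((Nat.dvd_prime hp.out).mp hdvd).resolve_left fun h => hg (orderOf_eq_one_iff.mp h)
  intro i j hij
  exact Fin.ext (pow_injOn_Iio_orderOf (by rw [Set.mem_Iio, hord]; exact i.isLt)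
    (by rw [Set.mem_Iio, hord]; exact j.isLt) hij)

omit hA in
/-- over an algebraically closed field the dual of a Hopf algebra of prime rank is monogenic -/
theorem exists_linearIndependent_pow (p : ℕ) [hp : Fact p.Prime] (hA' : Module.finrank K A = p) :
    ∃ x : WithConv (A →ₗ[K] K), LinearIndependent K (fun i : Fin p => x ^ (i : ℕ)) := by
  have hA : IsArtinianRing A := IsArtinianRing.of_finite K A
  rcases order_prime_cases p hA' with ⟨hchar, d, hd0, hd⟩ | ⟨hc, -⟩
  · refine ⟨toConv d, linearIndependent_pow hd hd0 p fun i hi h0 => ?_⟩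
    rw [CharP.cast_eq_zero_iff K p] at h0
    exact absurd ((Nat.Prime.dvd_factorial hp.out).mp h0) (by omega)
  · obtain ⟨g, hg⟩ := exists_generator_point hc
    refine ⟨linHom g, ?_⟩
    have h1 := (linearIndependent_algHom_toLinearMap K A K).comp
      (fun i : Fin p => (g ^ (i : ℕ)).ofConv) fun i j h => hg.1 (WithConv.ext h)
    have h2 : (fun i : Fin p => linHom g ^ (i : ℕ)) =
        fun i : Fin p => (WithConv.linearEquiv K (A →ₗ[K] K)).symm (g ^ (i : ℕ)).ofConv.toLinearMap := by
      funext i; rw [← map_pow]; rfl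
    rw [h2]
    exact h1.map' _ (LinearEquiv.ker _)

end AlgClosed

end

end Groth.Agent.FinHopf.FieldOrderP
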