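import Mathlib.RingTheory.HopfAlgebra.Convolution
import Mathlib.RingTheory.Norm.Basic
import Mathlib.RingTheory.Spectrum.Prime.FreeLocus
import Mathlib.RingTheory.Flat.Stability
import Mathlib.RingTheory.LocalRing.Module
import Mathlib.RingTheory.LocalProperties.Basic

/-!
# Deligne's theorem: a commutative finite locally free group of rank `n` is killed by `n`
-/

open Coalgebra Bialgebra TensorProduct WithConv

universe u v w

namespace Groth.Agent.FinHopf.Deligne

noncomputable section

variable {R : Type u} [CommRing R] {A : Type v} [CommRing A] [HopfAlgebra R A]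
  {T : Type w} [CommRing T] [Algebra R T]

/-- post-composition with an algebra map, as a monoid hom of convolution monoids of points -/
def postHom {T' : Type*} [CommRing T'] [Algebra R T'] (h : T →ₐ[R] T') :
    WithConv (A →ₐ[R] T) →* WithConv (A →ₐ[R] T') where
  toFun f := toConv (h.comp f.ofConv)
  map_one' := by
    apply WithConv.ext; ext a
    simp [AlgHom.convOne_def]
  map_mul' f g := by
    apply WithConv.ext
    simpa using AlgHom.comp_convMul_distrib h f g

/-- the underlying linear map, as a monoid hom -/
def linHom : WithConv (A →ₐ[R] T) →* WithConv (A →ₗ[R] T) where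
  toFun f := toConv f.ofConv.toLinearMap
  map_one' := AlgHom.toLinearMap_convOne
  map_mul' := AlgHom.toLinearMap_convMul

theorem linHom_injective : Function.Injective (linHom (R := R) (A := A) (T := T)) :=
  fun _ _ h => WithConv.ext (AlgHom.toLinearMap_injective (congrArg WithConv.ofConv h))

/-- post-composition of linear maps with an algebra map, as a ring hom of convolution rings -/
def postRingHom {T' : Type*} [CommRing T'] [Algebra R T'] (h : T →ₐ[R] T') :
    WithConv (A →ₗ[R] T) →+* WithConv (A →ₗ[R] T') where
  toFun f := toConv (h.toLinearMap ∘ₗ f.ofConv)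
  map_one' := by
    apply WithConv.ext; ext a
    simp [LinearMap.convOne_def]
  map_mul' f g := by
    apply WithConv.ext
    simpa using LinearMap.algHom_comp_convMul_distrib h f g
  map_zero' := by apply WithConv.ext; ext a; simp
  map_add' f g := by apply WithConv.ext; ext a; simp

/-- the inverse of a point: compose with the antipode -/
def inv' (f : WithConv (A →ₐ[R] T)) : WithConv (A →ₐ[R] T) :=
  postHom f.ofConv (toConv (HopfAlgebra.antipodeAlgHom R A))

theorem inv'_mul (f : WithConv (A →ₐ[R] T)) : inv' f * f = 1 := by
  have h : f = postHom f.ofConv (toConv (AlgHom.id R A)) := rfl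
  conv_lhs => arg 2; rw [h]
  rw [inv', ← map_mul, AlgHom.antipode_id_cancel, map_one]

theorem mul_inv' (f : WithConv (A →ₐ[R] T)) : f * inv' f = 1 := by
  have h := inv'_mul (inv' f)
  rwa [left_inv_eq_right_inv h (inv'_mul f)] at h

theorem isUnit_point (f : WithConv (A →ₐ[R] T)) : IsUnit f :=
  ⟨⟨f, inv' f, mul_inv' f, inv'_mul f⟩, rfl⟩

variable (R A T) in
/-- `t ↦ t ⊗ 1` -/
abbrev inclL : T →ₐ[R] T ⊗[R] A := Algebra.TensorProduct.includeLeft

variable (R A T) in
/-- `a ↦ 1 ⊗ a` -/
abbrev inclR : A →ₐ[R] T ⊗[R] A := Algebra.TensorProduct.includeRight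

variable (g : WithConv (A →ₐ[R] T))

/-- The universal point times `g`, with values in `T ⊗ A`. -/
def shifted : WithConv (A →ₐ[R] T ⊗[R] A) :=
  toConv (inclR R A T) * postHom (inclL R A T) g

/-- translation by `g` on `T ⊗ A` -/
def transl : T ⊗[R] A →ₐ[T] T ⊗[R] A :=
  Algebra.TensorProduct.lift (Algebra.ofId T (T ⊗[R] A)) (shifted g).ofConv fun _ _ => Commute.all _ _

theorem transl_comp_includeRight :
    ((transl g).restrictScalars R).comp (inclR R A T) = (shifted g).ofConv := by
  ext a; simp [transl]

theorem transl_comp_includeLeft :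
    ((transl g).restrictScalars R).comp (inclL R A T) = inclL R A T := by
  ext t; simp [transl, Algebra.ofId_apply]

theorem postHom_comp {T' T'' : Type*} [CommRing T'] [Algebra R T'] [CommRing T''] [Algebra R T'']
    (h : T →ₐ[R] T') (h' : T' →ₐ[R] T'') (f : WithConv (A →ₐ[R] T)) :
    postHom h' (postHom h f) = postHom (h'.comp h) f := rfl

theorem postHom_transl_includeLeft (f : WithConv (A →ₐ[R] T)) :
    postHom ((transl g).restrictScalars R) (postHom (inclL R A T) f) =
      postHom (inclL R A T) f := by
  rw [postHom_comp, transl_comp_includeLeft]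

theorem postHom_transl_includeRight :
    postHom ((transl g).restrictScalars R) (toConv (inclR R A T)) = shifted g := by
  change toConv _ = _
  rw [ofConv_toConv, transl_comp_includeRight, toConv_ofConv]

theorem transl_comp (h : WithConv (A →ₐ[R] T)) :
    (transl g).comp (transl h) = transl (g * h) := by
  apply Algebra.TensorProduct.ext_ring
  change ((transl g).restrictScalars R).comp (((transl h).restrictScalars R).comp (inclR R A T)) =
    ((transl (g * h)).restrictScalars R).comp (inclR R A T)
  rw [transl_comp_includeRight, transl_comp_includeRight]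
  apply WithConv.toConv_injective
  change postHom ((transl g).restrictScalars R) (shifted h) = shifted (g * h)
  rw [shifted, map_mul, postHom_transl_includeRight, postHom_transl_includeLeft, shifted, shifted,
    map_mul, mul_assoc]

theorem transl_one : transl (1 : WithConv (A →ₐ[R] T)) = AlgHom.id T _ := by
  apply Algebra.TensorProduct.ext_ring
  rw [transl_comp_includeRight, shifted, map_one, mul_one]
  rfl

/-- translation as an automorphism -/
def translEquiv : T ⊗[R] A ≃ₐ[T] T ⊗[R] A :=
  AlgEquiv.ofAlgHom (transl g) (transl (inv' g)) (by rw [transl_comp, mul_inv', transl_one])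
    (by rw [transl_comp, inv'_mul, transl_one])

variable [Coalgebra.IsCocomm R A]

section Basis

variable {ι : Type*} [Finite ι] (b : Module.Basis ι T (T ⊗[R] A))

/-- the convolution ring of `T`-valued forms acts on `T ⊗ A`-valued forms -/
@[reducible] def convAlg :
    Algebra (WithConv (A →ₗ[R] T)) (WithConv (A →ₗ[R] T ⊗[R] A)) :=
  (postRingHom (inclL R A T)).toAlgebra

attribute [local instance] convAlg

theorem smul_def' (x : WithConv (A →ₗ[R] T)) (f : WithConv (A →ₗ[R] T ⊗[R] A)) :
    x • f = postRingHom (inclL R A T) x * f := rfl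

/-- coordinates -/
def coordEquiv :
    WithConv (A →ₗ[R] T ⊗[R] A) ≃ₗ[WithConv (A →ₗ[R] T)] (ι → WithConv (A →ₗ[R] T)) where
  toFun f i := toConv (((b.coord i).restrictScalars R) ∘ₗ f.ofConv)
  map_add' f f' := by ext i a; simp
  map_smul' x f := by
    ext i a
    have key : ∀ (t : T) (z : T ⊗[R] A), b.repr (t ⊗ₜ[R] 1 * z) i = t * b.repr z i := by
      intro t z
      have : t ⊗ₜ[R] (1 : A) * z = t • z := by
        rw [Algebra.smul_def]; rfl
      rw [this, map_smul]; rfl
    simp [smul_def', postRingHom, (ℛ R a).convMul_apply, map_sum, key]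
  invFun F := toConv ((b.equivFun.symm.toLinearMap.restrictScalars R) ∘ₗ
    LinearMap.pi fun i => (F i).ofConv)
  left_inv f := by
    apply WithConv.ext; ext a
    cases nonempty_fintype ι
    simp only [LinearMap.comp_apply]
    exact b.equivFun.symm_apply_apply (f.ofConv a)
  right_inv F := by
    ext i a
    cases nonempty_fintype ι
    simp only [LinearMap.comp_apply]
    exact congrFun (b.equivFun.apply_symm_apply fun i => (F i).ofConv a) i

include b in
/-- Deligne: if `T ⊗ A` is free of rank `card ι`, every `T`-point is killed by it. -/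
theorem pow_card_eq_one : g ^ Nat.card ι = 1 := by
  classical
  cases nonempty_fintype ι
  let E := WithConv (A →ₗ[R] T ⊗[R] A)
  let D := WithConv (A →ₗ[R] T)
  let B : Module.Basis ι D E := Module.Basis.ofEquivFun (coordEquiv b)
  let u : WithConv (A →ₐ[R] T ⊗[R] A) := toConv (inclR R A T)
  let τ : E ≃ₐ[D] E := AlgEquiv.ofRingEquiv
    (f := RingEquiv.ofRingHom (postRingHom ((translEquiv g).toAlgHom.restrictScalars R))
      (postRingHom ((translEquiv g).symm.toAlgHom.restrictScalars R))
      (by apply RingHom.ext; intro f; apply WithConv.ext; ext a; simp [postRingHom])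
      (by apply RingHom.ext; intro f; apply WithConv.ext; ext a; simp [postRingHom]))
    (fun x => by
      apply WithConv.ext; ext a
      change transl g (algebraMap T (T ⊗[R] A) (x.ofConv a)) = algebraMap T (T ⊗[R] A) (x.ofConv a)
      exact (transl g).commutes _)
  have hτ : τ (linHom u) = linHom u * algebraMap D E (linHom g) := by
    have h1 : τ (linHom u) = linHom (shifted g) := by
      rw [← postHom_transl_includeRight]
      rfl
    rw [h1, shifted, map_mul]
    rfl
  have hnorm : Algebra.norm D (linHom u) * linHom g ^ Nat.card ι = Algebra.norm D (linHom u) := by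
    have h2 := Algebra.norm_eq_of_algEquiv τ (linHom u)
    rw [hτ, map_mul, Algebra.norm_algebraMap_of_basis B, ← Nat.card_eq_fintype_card] at h2
    exact h2.symm ▸ h2
  have hu : IsUnit (Algebra.norm D (linHom u)) := ((isUnit_point u).map linHom).map _
  apply linHom_injective
  rw [map_pow, map_one]
  exact hu.mul_eq_left.mp hnorm

end Basis

/-- Deligne's theorem over a local test algebra. -/
theorem pow_finrank_eq_one [IsLocalRing T] [Module.Finite R A] [Module.Flat R A] :
    g ^ Module.finrank T (T ⊗[R] A) = 1 := by
  have : Module.Free T (T ⊗[R] A) := Module.free_of_flat_of_isLocalRing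
  rw [← Fintype.card_fin (Module.finrank T (T ⊗[R] A)), ← Nat.card_eq_fintype_card]
  exact pow_card_eq_one (g := g) (b := Module.finBasis T (T ⊗[R] A))

/-- Deligne's theorem. -/
theorem convPow_id_eq_one [Module.Finite R A] [Module.Projective R A] (n : ℕ)
    (hn : ∀ p : PrimeSpectrum R, Module.rankAtStalk A p = n) :
    (toConv (AlgHom.id R A)) ^ n = 1 := by
  apply WithConv.ext; ext a
  refine Module.eq_of_localization_maximal (fun P _ => Localization.AtPrime P)
    (fun P _ => Algebra.linearMap A (Localization.AtPrime P)) _ _ fun P hP => ?_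
  let T := Localization.AtPrime P
  let j : A →ₐ[R] T := IsScalarTower.toAlgHom R A T
  have h1 : Module.finrank T (T ⊗[R] A) = n := by
    have : Module.Free T (T ⊗[R] A) := Module.free_of_flat_of_isLocalRing
    have h := Module.rankAtStalk_baseChange (M := A) (IsLocalRing.closedPoint T) (R := R)
    rw [Module.rankAtStalk_eq_finrank_of_free, hn] at h
    simpa using h
  have h2 : postHom j (toConv (AlgHom.id R A) ^ n) = 1 := by
    rw [map_pow, ← h1]; exact pow_finrank_eq_one _
  exact AlgHom.congr_fun (congrArg WithConv.ofConv h2) a

end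

end Groth.Agent.FinHopf.Deligne
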