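import Groth.Prelude.Def_CartDual

/-!
# A finite projective bialgebra with commutative dual algebra is cocommutative
-/

open TensorProduct WithConv

universe u v

namespace Groth.Agent.FinHopf.Cocomm

theorem eq_of_forall_ev₂ {R : Type u} [CommRing R] {A : Type v} [AddCommGroup A] [Module R A]
    [Module.Finite R A] [Module.Projective R A] {z z' : A ⊗[R] A}
    (h : ∀ x y : CartDual.D R A, CartDual.ev₂ R A (x ⊗ₜ y) z = CartDual.ev₂ R A (x ⊗ₜ y) z') : z = z' := by
  have h' : ∀ φ : Module.Dual R (A ⊗[R] A), φ z = φ z' := by
    intro φ
    obtain ⟨w, rfl⟩ := (CartDual.ev₂ R A).surjective φ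
    induction w using TensorProduct.induction_on with
    | zero => simp
    | tmul x y => exact h x y
    | add w w' hw hw' => simp [map_add, hw, hw']
  rw [← sub_eq_zero]
  exact (Module.forall_dual_apply_eq_zero_iff R _).mp fun φ => by rw [map_sub, h', sub_self]

theorem isCocomm_of_comm {R : Type u} [CommRing R] {A : Type v} [Ring A] [Bialgebra R A]
    [Module.Finite R A] [Module.Projective R A] (h : ∀ x y : CartDual.D R A, x * y = y * x) :
    Coalgebra.IsCocomm R A := by
  refine ⟨LinearMap.ext fun a => eq_of_forall_ev₂ fun x y => ?_⟩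
  have h1 : CartDual.ev₂ R A (x ⊗ₜ y) (TensorProduct.comm R A A (Coalgebra.comul a)) = (y * x) a := by
    rw [LinearMap.convMul_apply]
    generalize Coalgebra.comul (R := R) a = t
    induction t using TensorProduct.induction_on with
    | zero => simp
    | tmul b c => simp [CartDual.coe_apply, mul_comm]
    | add t t' ht ht' => simp [map_add, ht, ht']
  have h2 : CartDual.ev₂ R A (x ⊗ₜ y) (Coalgebra.comul a) = (x * y) a := by
    rw [LinearMap.convMul_apply]
    generalize Coalgebra.comul (R := R) a = t
    induction t using TensorProduct.induction_on with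
    | zero => simp
    | tmul b c => simp [CartDual.coe_apply]
    | add t t' ht ht' => simp [map_add, ht, ht']
  simp only [LinearMap.comp_apply, LinearEquiv.coe_coe]
  rw [h1, h2, h]

end Groth.Agent.FinHopf.Cocomm
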