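import Groth.Agent.FinHopf.FieldOrderP
import Groth.Agent.FinHopf.Cocomm
import Mathlib.RingTheory.Nakayama
import Mathlib.Algebra.MvPolynomial.Funext
import Mathlib.RingTheory.Polynomial.Basic
import Mathlib.RingTheory.HopfAlgebra.TensorProduct
import Mathlib.FieldTheory.IsAlgClosed.AlgebraicClosure
import Mathlib.LinearAlgebra.Basis.VectorSpace

/-!
# Finite locally free groups of prime order are commutative
-/

open Coalgebra Bialgebra TensorProduct WithConv

universe u v w

namespace Groth.Agent.FinHopf.OrderP

open Groth.Agent.FinHopf.Deligne Groth.Agent.FinHopf.FieldOrderP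

noncomputable section

variable {R : Type u} [CommRing R] {A : Type v} [CommRing A] [HopfAlgebra R A]

/-- post-composition commutes with scalars -/
def postAlgHom {K L : Type*} [CommRing K] [CommRing L] [Algebra R K] [Algebra R L] [Algebra K L]
    [IsScalarTower R K L] :
    WithConv (A →ₗ[R] K) →+* WithConv (A →ₗ[R] L) :=
  postRingHom (IsScalarTower.toAlgHom R K L)

theorem postRingHom_smul {K T : Type*} [CommRing K] [CommRing T] [Algebra R K] [Algebra R T] [Algebra K T]
    [IsScalarTower R K T] (c : K) (f : WithConv (A →ₗ[R] K)) :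
    postRingHom (IsScalarTower.toAlgHom R K T) (c • f) =
      algebraMap K T c • postRingHom (IsScalarTower.toAlgHom R K T) f := by
  apply WithConv.ext; ext a
  change algebraMap K T (c * f a) = algebraMap K T c * algebraMap K T (f a)
  exact map_mul _ _ _

/-- forms with values in a test algebra are forms on the base change -/
def restrictHom (K : Type w) [CommRing K] [Algebra R K] :
    WithConv (K ⊗[R] A →ₗ[K] K) →ₗ[K] WithConv (A →ₗ[R] K) where
  toFun f := toConv ((f.ofConv.restrictScalars R) ∘ₗ TensorProduct.mk R K A 1)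
  map_add' f g := by apply WithConv.ext; ext a; simp
  map_smul' c f := by apply WithConv.ext; ext a; simp

theorem restrictHom_one (K : Type w) [CommRing K] [Algebra R K] :
    restrictHom (R := R) (A := A) K 1 = 1 := by
  apply WithConv.ext; ext a
  simp [restrictHom, Algebra.algebraMap_eq_smul_one]

theorem restrictHom_mul (K : Type w) [CommRing K] [Algebra R K] (f g : WithConv (K ⊗[R] A →ₗ[K] K)) :
    restrictHom (R := R) (A := A) K (f * g) = restrictHom K f * restrictHom K g := by
  apply WithConv.ext; ext a
  have r := ℛ R a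
  simp only [restrictHom, LinearMap.coe_mk, AddHom.coe_mk, ofConv_toConv, LinearMap.comp_apply,
    LinearMap.coe_restrictScalars, TensorProduct.mk_apply]
  rw [LinearMap.convMul_apply, LinearMap.convMul_apply]
  have hc : comul (R := K) ((1 : K) ⊗ₜ[R] a) =
      ∑ i ∈ (ℛ R a).index, ((1 : K) ⊗ₜ[R] (ℛ R a).left i) ⊗ₜ[K] ((1 : K) ⊗ₜ[R] (ℛ R a).right i) := by
    rw [TensorProduct.comul_tmul, CommSemiring.comul_apply, ← (ℛ R a).eq]
    simp [TensorProduct.tmul_sum, map_sum]
  rw [hc, ← (ℛ R a).eq]
  simp [map_sum]

theorem restrictHom_pow (K : Type w) [CommRing K] [Algebra R K] (f : WithConv (K ⊗[R] A →ₗ[K] K)) (n : ℕ) :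
    restrictHom (R := R) (A := A) K (f ^ n) = restrictHom K f ^ n := by
  induction n with
  | zero => simp [restrictHom_one]
  | succ n ih => rw [pow_succ, pow_succ, restrictHom_mul, ih]

theorem restrictHom_injective (K : Type w) [CommRing K] [Algebra R K] :
    Function.Injective (restrictHom (R := R) (A := A) K) := by
  intro f g h
  apply WithConv.ext
  ext a
  exact LinearMap.congr_fun (congrArg WithConv.ofConv h) a

/-- rank of a base change -/
theorem finrank_tensor [Module.Finite R A] [Module.Projective R A] (p : ℕ)
    (hp : ∀ q : PrimeSpectrum R, Module.rankAtStalk A q = p) (T : Type w) [CommRing T] [Algebra R T]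
    [IsLocalRing T] : Module.finrank T (T ⊗[R] A) = p := by
  have : Module.Free T (T ⊗[R] A) := Module.free_of_flat_of_isLocalRing
  have h := Module.rankAtStalk_baseChange (M := A) (IsLocalRing.closedPoint T) (R := R)
  rw [Module.rankAtStalk_eq_finrank_of_free, hp] at h
  simpa using h

variable [Module.Finite R A] [Module.Projective R A] (p : ℕ) [hp : Fact p.Prime]
  (hrk : ∀ q : PrimeSpectrum R, Module.rankAtStalk A q = p)

include hrk in
/-- over an infinite field the dual algebra is monogenic -/
theorem exists_span_pow_eq_top (K : Type w) [Field K] [Algebra R K] [Infinite K] :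
    ∃ x : WithConv (A →ₗ[R] K), Submodule.span K (Set.range fun i : Fin p => x ^ (i : ℕ)) = ⊤ := by
  classical
  have hn : Module.finrank K (K ⊗[R] A) = p := finrank_tensor p hrk K
  -- a basis made of pure tensors
  have hspan : Submodule.span K (Set.range fun a : A => (1 : K) ⊗ₜ[R] a) = ⊤ := by
    rw [eq_top_iff]
    intro z _
    induction z using TensorProduct.induction_on with
    | zero => exact zero_mem _
    | tmul c a =>
      have : c ⊗ₜ[R] a = c • ((1 : K) ⊗ₜ[R] a) := by rw [TensorProduct.smul_tmul', smul_eq_mul, mul_one]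
      rw [this]
      exact Submodule.smul_mem _ _ (Submodule.subset_span ⟨a, rfl⟩)
    | add x y hx hy => exact add_mem (hx trivial) (hy trivial)
  let b₀ := Module.Basis.ofSpan (K := K) hspan.ge
  have : Fintype _ := FiniteDimensional.fintypeBasisIndex b₀
  let e := Fintype.equivFinOfCardEq ((Module.finrank_eq_card_basis b₀).symm.trans hn)
  let b : Module.Basis (Fin p) K (K ⊗[R] A) := b₀.reindex e
  have hb : ∀ j, ∃ a : A, b j = (1 : K) ⊗ₜ[R] a := by
    intro j
    obtain ⟨a, ha⟩ := Module.Basis.ofSpan_subset hspan.ge (Set.mem_range_self (e.symm j))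
    exact ⟨a, by rw [Module.Basis.reindex_apply]; exact ha.symm⟩
  choose a ha using hb
  -- the universal form
  let S := MvPolynomial (Fin p) K
  let X : WithConv (A →ₗ[R] S) :=
    toConv (((b.constr K fun j => (MvPolynomial.X j : S)).restrictScalars R) ∘ₗ TensorProduct.mk R K A 1)
  let M : Matrix (Fin p) (Fin p) S := fun i j => (X ^ (i : ℕ)) (a j)
  -- specialisation
  have hspec : ∀ (L : Type w) [Field L] [Algebra R L] [Algebra K L] [IsScalarTower R K L]
      (f : WithConv (A →ₗ[R] L)),
      MvPolynomial.aeval (fun j => f (a j)) M.det = Matrix.det fun i j : Fin p => (f ^ (i : ℕ)) (a j) := by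
    intro L _ _ _ _ f
    let φ : S →ₐ[R] L := (MvPolynomial.aeval (R := K) fun j => f (a j)).restrictScalars R
    have hX : postRingHom φ X = f := by
      apply WithConv.ext
      have h1 : ((MvPolynomial.aeval (R := K) fun j => f (a j)).toLinearMap ∘ₗ
          (b.constr K fun j => (MvPolynomial.X j : S))) = LinearMap.liftBaseChange K f.ofConv := by
        apply b.ext; intro j
        rw [LinearMap.comp_apply, Module.Basis.constr_basis, ha, LinearMap.liftBaseChange_tmul, one_smul]
        exact MvPolynomial.aeval_X _ j
      ext x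
      have := LinearMap.congr_fun h1 ((1 : K) ⊗ₜ[R] x)
      simpa [postRingHom, X, φ, -Module.Basis.constr_apply_fintype] using this
    rw [AlgHom.map_det]
    congr 1
    ext i j
    simp only [M, AlgHom.mapMatrix_apply, Matrix.map_apply]
    conv_rhs => rw [← hX, ← map_pow]
    rfl
  -- non-vanishing over the algebraic closure
  have hne : M.det ≠ 0 := by
    let L := AlgebraicClosure K
    obtain ⟨x, hx⟩ := exists_linearIndependent_pow (K := L) (A := L ⊗[R] A) p (finrank_tensor p hrk L)
    intro h0
    have h1 := hspec L (restrictHom L x)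
    rw [h0, map_zero] at h1
    refine (Matrix.isUnit_iff_isUnit_det
      (Matrix.of fun i j : Fin p => (restrictHom (R := R) (A := A) L x ^ (i : ℕ)) (a j))).not.mpr
      (by change ¬ IsUnit (Matrix.det fun i j : Fin p => (restrictHom (R := R) (A := A) L x ^ (i : ℕ)) (a j))
          rw [← h1]; exact not_isUnit_zero) ?_
    rw [← Matrix.linearIndependent_rows_iff_isUnit]
    let E : WithConv (A →ₗ[R] L) →ₗ[L] (Fin p → L) :=
      LinearMap.pi fun j =>
        { toFun := fun f => f (a j)
          map_add' := fun _ _ => rfl
          map_smul' := fun _ _ => rfl }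
    have hinj : Function.Injective E := by
      intro f g hfg
      apply WithConv.ext
      have : LinearMap.liftBaseChange K f.ofConv = LinearMap.liftBaseChange K g.ofConv := by
        apply b.ext; intro j
        have h := congrFun hfg j
        rw [ha, LinearMap.liftBaseChange_tmul, LinearMap.liftBaseChange_tmul, one_smul, one_smul]
        exact h
      ext y
      simpa using LinearMap.congr_fun this ((1 : K) ⊗ₜ[R] y)
    have hpow := (hx.map' (restrictHom (R := R) (A := A) L) (LinearMap.ker_eq_bot.mpr (restrictHom_injective L))).map'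
      E (LinearMap.ker_eq_bot.mpr hinj)
    have hfun : (fun i : Fin p => fun j : Fin p => (restrictHom (R := R) (A := A) L x ^ (i : ℕ)) (a j)) =
        E ∘ restrictHom (R := R) (A := A) L ∘ fun i : Fin p => x ^ (i : ℕ) := by
      funext i j
      change (restrictHom (R := R) (A := A) L x ^ (i : ℕ)) (a j) = (restrictHom (R := R) (A := A) L (x ^ (i : ℕ))) (a j)
      rw [restrictHom_pow]
    change LinearIndependent L fun i : Fin p => fun j : Fin p => (restrictHom (R := R) (A := A) L x ^ (i : ℕ)) (a j)
    rw [hfun]
    exact hpow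
  -- a rational point where it does not vanish
  obtain ⟨c, hc⟩ : ∃ c : Fin p → K, MvPolynomial.eval c M.det ≠ 0 := by
    by_contra hc; push Not at hc
    exact hne (MvPolynomial.funext fun c => by rw [hc c, map_zero])
  let x : WithConv (A →ₗ[R] K) :=
    toConv (((b.constr K c).restrictScalars R) ∘ₗ TensorProduct.mk R K A 1)
  refine ⟨x, ?_⟩
  have hxa : ∀ j, x (a j) = c j := fun j => by simp [x, ← ha]
  have hdet : (Matrix.det fun i j : Fin p => (x ^ (i : ℕ)) (a j)) ≠ 0 := by
    rw [← hspec K x]
    simp only [hxa]
    rwa [MvPolynomial.aeval_eq_eval]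
  let E : WithConv (A →ₗ[R] K) →ₗ[K] (Fin p → K) :=
    LinearMap.pi fun j =>
      { toFun := fun f => f (a j)
        map_add' := fun _ _ => rfl
        map_smul' := fun _ _ => rfl }
  have hinj : Function.Injective E := by
    intro f g hfg
    apply WithConv.ext
    have : LinearMap.liftBaseChange K f.ofConv = LinearMap.liftBaseChange K g.ofConv := by
      apply b.ext; intro j
      have h := congrFun hfg j
      rw [ha, LinearMap.liftBaseChange_tmul, LinearMap.liftBaseChange_tmul, one_smul, one_smul]
      exact h
    ext y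
    simpa using LinearMap.congr_fun this ((1 : K) ⊗ₜ[R] y)
  have hli : LinearIndependent K (fun i : Fin p => x ^ (i : ℕ)) :=
    LinearIndependent.of_comp E (Matrix.linearIndependent_rows_iff_isUnit.mpr
      ((Matrix.isUnit_iff_isUnit_det _).mpr hdet.isUnit))
  have : FiniteDimensional K (WithConv (A →ₗ[R] K)) := FiniteDimensional.of_injective E hinj
  have hle : Module.finrank K (WithConv (A →ₗ[R] K)) ≤ p := by
    simpa using LinearMap.finrank_le_finrank_of_injective hinj
  refine hli.span_eq_top_of_card_eq_finrank' ?_
  exact le_antisymm (by simpa using hli.fintype_card_le_finrank) (by simpa using hle)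

include hrk in
/-- over a local ring with infinite residue field the dual algebra is commutative -/
theorem commute_of_isLocalRing (T : Type w) [CommRing T] [Algebra R T] [IsLocalRing T]
    [Infinite (IsLocalRing.ResidueField T)] (y z : WithConv (A →ₗ[R] T)) : y * z = z * y := by
  let K := IsLocalRing.ResidueField T
  let ρ : WithConv (A →ₗ[R] T) →+* WithConv (A →ₗ[R] K) := postRingHom (IsScalarTower.toAlgHom R T K)
  obtain ⟨xK, hxK⟩ := exists_span_pow_eq_top p hrk K
  obtain ⟨x, hx⟩ : ∃ x, ρ x = xK := by
    obtain ⟨h, hh⟩ := Module.projective_lifting_property (IsScalarTower.toAlgHom R T K).toLinearMap xK.ofConv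
      IsLocalRing.residue_surjective
    exact ⟨toConv h, WithConv.ext hh⟩
  -- generators
  obtain ⟨n, f, g, -, -, hfg⟩ := Module.Finite.exists_comp_eq_id_of_projective R A
  have hexp : ∀ φ : WithConv (A →ₗ[R] T),
      φ = ∑ k : Fin n, φ (f (Pi.single k 1)) • toConv (Algebra.linearMap R T ∘ₗ LinearMap.proj k ∘ₗ g) := by
    intro φ
    apply WithConv.ext; ext t
    conv_lhs => rw [show t = f (g t) from (LinearMap.congr_fun hfg t).symm]
    rw [pi_eq_sum_univ' (g t), map_sum, map_sum]
    simp only [WithConv.ofConv_sum, LinearMap.sum_apply]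
    refine Finset.sum_congr rfl fun k _ => ?_
    rw [map_smul, map_smul]
    change g t k • φ (f _) = φ (f (Pi.single k 1)) * algebraMap R T (g t k)
    rw [Algebra.smul_def, mul_comm]
  have hfin : Module.Finite T (WithConv (A →ₗ[R] T)) :=
    Module.Finite.of_surjective
      (Fintype.linearCombination T fun k : Fin n => toConv (Algebra.linearMap R T ∘ₗ LinearMap.proj k ∘ₗ g))
      fun φ => ⟨fun k => φ (f (Pi.single k 1)), (hexp φ).symm⟩
  let N : Submodule T (WithConv (A →ₗ[R] T)) := Submodule.span T (Set.range fun i : Fin p => x ^ (i : ℕ))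
  have hN : N = ⊤ := by
    rw [eq_top_iff]
    apply Submodule.le_of_le_smul_of_le_jacobson_bot (I := IsLocalRing.maximalIdeal T) Module.Finite.fg_top
      (IsLocalRing.maximalIdeal_le_jacobson _)
    intro φ _
    have hmem : ρ φ ∈ Submodule.span K (Set.range fun i : Fin p => xK ^ (i : ℕ)) := by rw [hxK]; trivial
    obtain ⟨c, hc⟩ := (Submodule.mem_span_range_iff_exists_fun K).mp hmem
    choose t ht using fun i => IsLocalRing.residue_surjective (c i)
    let φ' := φ - ∑ i, t i • x ^ (i : ℕ)
    have h0 : ρ φ' = 0 := by
      simp only [φ', ρ, map_sub, map_sum, postRingHom_smul, map_pow]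
      rw [← hc, sub_eq_zero]
      refine Finset.sum_congr rfl fun i _ => ?_
      have : algebraMap T K (t i) = c i := ht i
      rw [this, ← hx]
    have hm : φ' ∈ IsLocalRing.maximalIdeal T • (⊤ : Submodule T (WithConv (A →ₗ[R] T))) := by
      rw [hexp φ']
      refine Submodule.sum_mem _ fun k _ => Submodule.smul_mem_smul ?_ trivial
      rw [← IsLocalRing.residue_eq_zero_iff]
      exact LinearMap.congr_fun (congrArg WithConv.ofConv h0) (f (Pi.single k 1))
    have : φ = (∑ i, t i • x ^ (i : ℕ)) + φ' := by simp [φ']
    rw [this]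
    refine add_mem (Submodule.mem_sup_left (Submodule.sum_mem _ fun i _ =>
      Submodule.smul_mem _ _ (Submodule.subset_span ⟨i, rfl⟩))) (Submodule.mem_sup_right hm)
  have hy : y ∈ N := hN ▸ trivial
  have hz : z ∈ N := hN ▸ trivial
  have hcomm : ∀ φ ∈ N, ∀ ψ ∈ N, Commute φ ψ := by
    intro φ hφ
    induction hφ using Submodule.span_induction with
    | mem w hw =>
      obtain ⟨i, rfl⟩ := hw
      intro ψ hψ
      induction hψ using Submodule.span_induction with
      | mem w' hw' => obtain ⟨j, rfl⟩ := hw'; exact Commute.pow_pow_self x _ _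
      | zero => exact Commute.zero_right _
      | add w₁ w₂ _ _ h₁ h₂ => exact h₁.add_right h₂
      | smul c w₁ _ h₁ => exact h₁.smul_right c
    | zero => intro ψ _; exact Commute.zero_left _
    | add w₁ w₂ _ _ h₁ h₂ => intro ψ hψ; exact (h₁ ψ hψ).add_left (h₂ ψ hψ)
    | smul c w₁ _ h₁ => intro ψ hψ; exact (h₁ ψ hψ).smul_left c
  exact hcomm y hy z hz

include hrk in
/-- the dual algebra of a finite locally free group of prime order is commutative -/
theorem dual_comm (y z : WithConv (A →ₗ[R] R)) : y * z = z * y := by
  apply WithConv.ext; ext a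
  refine Module.eq_of_localization_maximal (fun P _ => Localization.AtPrime P)
    (fun P _ => Algebra.linearMap R (Localization.AtPrime P)) _ _ fun P hP => ?_
  let T₀ := Localization.AtPrime P
  let Q : Ideal (Polynomial T₀) := (IsLocalRing.maximalIdeal T₀).map Polynomial.C
  have hQ : Q.IsPrime := Ideal.isPrime_map_C_of_isPrime
  let T := Localization.AtPrime Q
  have hinj : Function.Injective (algebraMap T₀ T) := by
    rw [injective_iff_map_eq_zero]
    intro t ht
    rw [IsScalarTower.algebraMap_apply T₀ (Polynomial T₀) T] at ht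
    obtain ⟨s, hs⟩ := (IsLocalization.map_eq_zero_iff Q.primeCompl _ _).mp ht
    obtain ⟨n, hn⟩ : ∃ n, (s : Polynomial T₀).coeff n ∉ IsLocalRing.maximalIdeal T₀ := by
      by_contra h; push Not at h
      exact s.2 (Ideal.mem_map_C_iff.mpr h)
    have h2 := congrArg (fun q => Polynomial.coeff q n) hs
    simp only [Polynomial.algebraMap_eq, Polynomial.coeff_mul_C, Polynomial.coeff_zero] at h2
    exact (IsLocalRing.notMem_maximalIdeal.mp hn).mul_right_eq_zero.mp h2
  have hinf : Infinite (IsLocalRing.ResidueField T) := by
    let π : Polynomial T₀ →+* IsLocalRing.ResidueField T :=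
      (IsLocalRing.residue T).comp (algebraMap (Polynomial T₀) T)
    refine Infinite.of_injective (fun i : ℕ => π (Polynomial.X ^ i)) fun i j hij => ?_
    by_contra hne
    have h2 : π (Polynomial.X ^ i - Polynomial.X ^ j) = 0 := by rw [map_sub]; exact sub_eq_zero.mpr hij
    rw [RingHom.comp_apply, IsLocalRing.residue_eq_zero_iff,
      IsLocalization.AtPrime.to_map_mem_maximal_iff T Q] at h2
    have h3 := Ideal.mem_map_C_iff.mp h2 i
    simp [hne] at h3
  have hRT : ∀ r : R, algebraMap R T r = algebraMap T₀ T (algebraMap R T₀ r) :=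
    fun r => IsScalarTower.algebraMap_apply R T₀ T r
  let ι : R →ₐ[R] T := Algebra.ofId R T
  have hc := commute_of_isLocalRing p hrk T (postRingHom ι y) (postRingHom ι z)
  rw [← map_mul, ← map_mul] at hc
  apply hinj
  have := LinearMap.congr_fun (congrArg WithConv.ofConv hc) a
  change algebraMap T₀ T (algebraMap R T₀ ((y * z) a)) = algebraMap T₀ T (algebraMap R T₀ ((z * y) a))
  rw [← hRT, ← hRT]
  exact this

include hrk in
/-- finite locally free groups of prime order are commutative -/
theorem isCocomm : Coalgebra.IsCocomm R A :=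
  Groth.Agent.FinHopf.Cocomm.isCocomm_of_comm (dual_comm p hrk)

end

end Groth.Agent.FinHopf.OrderP
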