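import Groth.Agent.FinHopf.Deligne
import Mathlib.RingTheory.Smooth.Fiber
import Mathlib.RingTheory.Finiteness.ModuleFinitePresentation

/-!
# Translations by rational points, invariant derivations, étaleness criterion `I² = I`
-/

open Coalgebra Bialgebra TensorProduct WithConv

universe u v w

namespace Groth.Agent.FinHopf.Points

open Groth.Agent.FinHopf.Deligne

noncomputable section

variable {R : Type u} [CommRing R] {A : Type v} [CommRing A] [HopfAlgebra R A]

/-- `g * id` style translation of `A` by a rational point: `a ↦ Σ g(a₂) a₁` -/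
def trans (g : WithConv (A →ₐ[R] R)) : A →ₐ[R] A :=
  (toConv (AlgHom.id R A) * postHom (Algebra.ofId R A) g).ofConv

theorem counit_comp_trans (g : WithConv (A →ₐ[R] R)) :
    (Bialgebra.counitAlgHom R A).comp (trans g) = g.ofConv := by
  apply WithConv.toConv_injective
  change postHom (Bialgebra.counitAlgHom R A) (toConv (AlgHom.id R A) * postHom (Algebra.ofId R A) g) = g
  have h1 : postHom (Bialgebra.counitAlgHom R A) (toConv (AlgHom.id R A)) = (1 : WithConv (A →ₐ[R] R)) := by
    apply WithConv.ext; ext a; simp [postHom, AlgHom.convOne_def]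
  have h2 : (Bialgebra.counitAlgHom R A).comp (Algebra.ofId R A) = AlgHom.id R R := Subsingleton.elim _ _
  rw [map_mul, h1, one_mul, postHom_comp, h2]
  rfl

theorem trans_comp (g h : WithConv (A →ₐ[R] R)) : (trans g).comp (trans h) = trans (g * h) := by
  apply WithConv.toConv_injective
  change postHom (trans g) (toConv (AlgHom.id R A) * postHom (Algebra.ofId R A) h) =
    toConv (AlgHom.id R A) * postHom (Algebra.ofId R A) (g * h)
  have h2 : (trans g).comp (Algebra.ofId R A) = Algebra.ofId R A := Subsingleton.elim _ _
  rw [map_mul, map_mul, postHom_comp, h2, ← mul_assoc]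
  congr 1

theorem trans_one : trans (1 : WithConv (A →ₐ[R] R)) = AlgHom.id R A := by
  simp [trans]

/-- translation by a rational point, as an automorphism -/
def transEquiv (g : WithConv (A →ₐ[R] R)) : A ≃ₐ[R] A :=
  AlgEquiv.ofAlgHom (trans g) (trans (inv' g)) (by rw [trans_comp, mul_inv', trans_one])
    (by rw [trans_comp, inv'_mul, trans_one])

@[simp] theorem transEquiv_apply (g : WithConv (A →ₐ[R] R)) (a : A) : transEquiv g a = trans g a := rfl

theorem comap_ker_trans (g : WithConv (A →ₐ[R] R)) :
    (RingHom.ker (Bialgebra.counitAlgHom R A)).comap (transEquiv g) = RingHom.ker g.ofConv := by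
  ext a
  rw [← counit_comp_trans g, Ideal.mem_comap, RingHom.mem_ker, RingHom.mem_ker]
  rfl

theorem map_ker_trans_symm (g : WithConv (A →ₐ[R] R)) :
    (RingHom.ker (Bialgebra.counitAlgHom R A)).map (transEquiv g).symm = RingHom.ker g.ofConv := by
  rw [← comap_ker_trans g]
  apply le_antisymm
  · rw [Ideal.map_le_iff_le_comap]
    intro a ha
    simpa [Ideal.mem_comap] using ha
  · intro a ha
    rw [Ideal.mem_comap] at ha
    have := Ideal.mem_map_of_mem ((transEquiv g).symm) ha
    rwa [AlgEquiv.symm_apply_apply] at this

/-- an algebra whose augmentation ideal is idempotent is formally unramified -/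
theorem formallyUnramified_of_idempotent
    (hI : RingHom.ker (Bialgebra.counitAlgHom R A) ^ 2 = RingHom.ker (Bialgebra.counitAlgHom R A)) :
    Algebra.FormallyUnramified R A := by
  rw [Algebra.formallyUnramified_iff]
  change Subsingleton (KaehlerDifferential.ideal R A).Cotangent
  rw [Ideal.cotangent_subsingleton_iff]
  let ψ := translEquiv (toConv (AlgHom.id R A) : WithConv (A →ₐ[R] A))
  let e : A ⊗[R] A →ₐ[A] A :=
    (Algebra.TensorProduct.rid R A A).toAlgHom.comp
      (Algebra.TensorProduct.map (AlgHom.id A A) (Bialgebra.counitAlgHom R A))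
  have hψ : (e.restrictScalars R).comp (ψ.toAlgHom.restrictScalars R) = Algebra.TensorProduct.lmul' R := by
    have hl : (e.restrictScalars R).comp (inclL R A A) = AlgHom.id R A := by
      ext a; simp [e]
    have hr : (e.restrictScalars R).comp (inclR R A A) =
        (Algebra.ofId R A).comp (Bialgebra.counitAlgHom R A) := by
      ext a; simp [e, Algebra.ofId_apply, Algebra.algebraMap_eq_smul_one]
    apply Algebra.TensorProduct.ext
    · ext a
      change e (transl _ (inclL R A A a)) = _
      have := AlgHom.congr_fun (transl_comp_includeLeft (toConv (AlgHom.id R A) : WithConv (A →ₐ[R] A))) a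
      simp only [AlgHom.comp_apply, AlgHom.restrictScalars_apply] at this
      rw [this]
      simpa using AlgHom.congr_fun hl a
    · apply WithConv.toConv_injective
      change postHom (e.restrictScalars R) (postHom ((transl _).restrictScalars R) (toConv (inclR R A A))) = _
      rw [postHom_transl_includeRight, shifted, map_mul, postHom_comp, hl]
      change postHom (e.restrictScalars R) (toConv (inclR R A A)) * _ = _
      have h1 : postHom (e.restrictScalars R) (toConv (inclR R A A)) = 1 := by
        change toConv _ = _
        rw [ofConv_toConv, hr]; rfl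
      rw [h1, one_mul]
      apply WithConv.ext; ext a; simp [postHom]
  have hker : KaehlerDifferential.ideal R A =
      ((RingHom.ker (Bialgebra.counitAlgHom R A)).map (inclR R A A)).comap ψ.toAlgHom := by
    have h1 : RingHom.ker e = (RingHom.ker (Bialgebra.counitAlgHom R A)).map (inclR R A A) := by
      have hs : Function.Surjective (Bialgebra.counitAlgHom R A) := fun r =>
        ⟨algebraMap R A r, by simp⟩
      have := Algebra.TensorProduct.lTensor_ker (R := R) (A := A) (Bialgebra.counitAlgHom R A) hs
      rw [← this]
      ext x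
      simp only [RingHom.mem_ker, e, AlgHom.comp_apply, AlgEquiv.coe_toAlgHom]
      rw [EmbeddingLike.map_eq_zero_iff]
      rfl
    rw [← h1]
    ext x
    simp only [KaehlerDifferential.ideal, RingHom.mem_ker, Ideal.mem_comap]
    rw [← hψ]
    rfl
  have hid : IsIdempotentElem ((RingHom.ker (Bialgebra.counitAlgHom R A)).map (inclR R A A)) := by
    rw [IsIdempotentElem, ← Ideal.map_mul, ← pow_two, hI]
  rw [hker]
  change IsIdempotentElem (Ideal.comap ψ.toRingEquiv _)
  rw [← Ideal.map_symm, IsIdempotentElem, ← Ideal.map_mul, hid]

/-- Étaleness criterion. -/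
theorem etale_iff_idempotent [Module.Finite R A] [Module.Projective R A] :
    Algebra.Etale R A ↔
      RingHom.ker (Bialgebra.counitAlgHom R A) ^ 2 = RingHom.ker (Bialgebra.counitAlgHom R A) := by
  set I := RingHom.ker (Bialgebra.counitAlgHom R A)
  constructor
  · intro h
    refine le_antisymm (Ideal.pow_le_self two_ne_zero) ?_
    let f₁ : A →ₐ[R] A ⧸ I ^ 2 := Ideal.Quotient.mkₐ R (I ^ 2)
    let f₂ : A →ₐ[R] A ⧸ I ^ 2 := (Algebra.ofId R _).comp (Bialgebra.counitAlgHom R A)
    have hf : f₁ = f₂ := by
      refine Algebra.FormallyUnramified.ext (I.map (Ideal.Quotient.mk (I ^ 2))) ⟨2, ?_⟩ fun a => ?_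
      · rw [← Ideal.map_pow, Ideal.map_quotient_self]; rfl
      · rw [Ideal.Quotient.eq]
        have : f₁ a - f₂ a = Ideal.Quotient.mk (I ^ 2) (a - algebraMap R A (counit a)) := by
          simp [f₁, f₂, Algebra.ofId_apply]
        rw [this]
        exact Ideal.mem_map_of_mem _ (by simp [I, RingHom.mem_ker])
    intro a ha
    have := AlgHom.congr_fun hf a
    rw [← Ideal.Quotient.eq_zero_iff_mem]
    rw [RingHom.mem_ker] at ha
    simpa [f₁, f₂, show counit (R := R) a = 0 from ha] using this
  · intro h
    have : Algebra.FormallyUnramified R A := formallyUnramified_of_idempotent h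
    have : Module.FinitePresentation R A := Module.finitePresentation_of_projective R A
    have : Algebra.FinitePresentation R A :=
      Algebra.FinitePresentation.of_finitePresentation R A
    exact Algebra.Etale.of_formallyUnramified_of_flat

end

end Groth.Agent.FinHopf.Points
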